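import Groth.Agent.Lead.ProjAdj.Omega
import Groth.Agent.Lead.ProjTwT
import Groth.Agent.L29.BCAdj.AdjBC

/-!
The right adjoint of the derived direct image along projective space at the structure sheaf.
-/

set_option autoImplicit false
set_option linter.style.haveILetI false
set_option backward.defeqAttrib.useBackward true
set_option backward.isDefEq.respectTransparency false
set_option backward.isDefEq.respectTransparency.types false

universe u

open CategoryTheory CategoryTheory.Limits CategoryTheory.Pretriangulated AlgebraicGeometry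

attribute [local instance] HasDerivedCategory.standard

noncomputable section

namespace Groth.Lead.ProjAdj

open Groth.L00 Groth.L29.DC Groth.L29.DC.Gen Groth.L16.ProjSpace Groth.Lead.PCProj

variable (n : ℕ) (A : Type u) [CommRing A]

local notation "O" => Twist.twistProjSpace n A
local notation "X'" => CohB1.ProjSpace n A
local notation "π'" => CohB1.ProjSpace.toSpec n A

variable [DCoh.HasRpush (CohB1.ProjSpace.toSpec n A)]

/-- the unit at the structure sheaf of the base is invertible -/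
theorem isIso_unit_OS [DCoh.HasLpull (CohB1.ProjSpace.toSpec n A)] :
    IsIso ((Groth.L29.BC.adj π').unit.app (OS A)) := by
  haveI : IsProper π' := Groth.L16.ProjSpace.isProper_toSpec n A
  haveI : Flat π' := Groth.L16.ProjSpace.flat_toSpec n A
  obtain ⟨eP⟩ := Groth.L29.RelPC.nonempty_Lpull_unit π'
  obtain ⟨eR⟩ := Groth.Lead.PerfProj.nonempty_Rpush_structure n A
  let ad := Groth.L29.BC.adj π'
  let θ : (DCoh.Rpush π').obj ((DCoh.Lpull π').obj (OS A)) ≅ OS A := (DCoh.Rpush π').mapIso eP ≪≫ eR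
  let φ := (ad.homEquiv _ _).symm θ.inv
  have hφ : ad.unit.app (OS A) ≫ (DCoh.Rpush π').map φ = θ.inv :=
    ((ad.homEquiv_unit (f := φ)).symm).trans (Equiv.apply_symm_apply _ _)
  let η₀ : OS A ⟶ OS A := ad.unit.app (OS A) ≫ θ.hom
  let ρ : OS A ⟶ OS A := θ.inv ≫ (DCoh.Rpush π').map φ ≫ θ.hom
  have h1 : η₀ ≫ ρ = 𝟙 _ := by
    simp only [η₀, ρ, Category.assoc, Iso.hom_inv_id_assoc]
    rw [← Category.assoc, hφ, Iso.inv_hom_id]
  haveI : IsIso η₀ := ⟨ρ, h1, (Groth.Lead.PerfProj.comp_comm_OS A ρ η₀).trans h1⟩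
  have : ad.unit.app (OS A) = η₀ ≫ θ.inv := by simp [η₀]
  rw [this]
  infer_instance

/-- no maps from the twists when the twisted direct image vanishes -/
theorem ortho_of_isZero_NF (d : ℤ) {E : DCoh.D X'} (hE : DCoh.IsQCohD E) (h : IsZero ((NF n A d).obj E)) :
    Ortho (DCoh.inD X' (O (-d))) E := by
  intro m φ
  let ψ : DCoh.inD X' (O (-d)) ⟶ E⟦-m⟧ :=
    ((shiftFunctorCompIsoId _ m (-m) (add_neg_cancel m)).inv.app (DCoh.inD X' (O (-d))) :) ≫ φ⟦-m⟧'
  have hψ : ψ = 0 := hom_eq_zero n A d (isQCohD_shift hE (-m))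
    ((DerivedCategory.homologyFunctor _ 0).map_isZero
      (((shiftFunctor _ (-m)).map_isZero h).of_iso (((NF n A d).commShiftIso (-m)).app E))) ψ
  refine (shiftFunctor _ (-m)).map_injective ?_
  rw [Functor.map_zero, ← cancel_epi ((shiftFunctorCompIsoId _ m (-m) (add_neg_cancel m)).inv.app (DCoh.inD X' (O (-d))))]
  exact hψ.trans comp_zero.symm

set_option maxHeartbeats 6400000 in
/-- `a(O) = O(-n-1)[n]` -/
theorem nonempty_adjoint_structure
    {h : DCoh.RpushPreservesQCoh (CohB1.ProjSpace.toSpec n A)}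
    {a : DCoh.DQCoh (Spec (CommRingCat.of A)) ⥤ DCoh.DQCoh (CohB1.ProjSpace n A)}
    (adj : DCoh.RpushQ (CohB1.ProjSpace.toSpec n A) h ⊣ a) (S : DCoh.DQCoh (Spec (CommRingCat.of A)))
    (e : S.obj ≅ OS A) :
    Nonempty ((a.obj S).obj ≅ (DCoh.inD X' (O (-((n : ℤ) + 1))))⟦(n : ℤ)⟧) := by
  haveI : IsProper π' := Groth.L16.ProjSpace.isProper_toSpec n A
  haveI := KFlat.hasLpull π'
  haveI : Flat π' := Groth.L16.ProjSpace.flat_toSpec n A
  haveI : CompactSpace X' := QuasiCompact.compactSpace_of_compactSpace π'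
  let ad := Groth.L29.BC.adj π'
  let R := DCoh.Rpush π'
  -- `R a(O) ⟶ O` is invertible
  haveI : IsIso (ad.unit.app S.obj) := (NatTrans.isIso_app_iff_of_iso ad.unit e).2 (isIso_unit_OS n A)
  let P : DCoh.DQCoh X' := ⟨(DCoh.Lpull π').obj S.obj, Groth.L29.DC.isQCohD_Lpull π' S.property⟩
  let w : P ⟶ a.obj S := adj.homEquiv P S (ObjectProperty.homMk (inv (ad.unit.app S.obj)))
  let ε : R.obj (a.obj S).obj ⟶ S.obj := (adj.counit.app S).hom
  let u : S.obj ⟶ R.obj (a.obj S).obj := ad.unit.app S.obj ≫ R.map w.hom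
  have hwε : R.map w.hom ≫ ε = inv (ad.unit.app S.obj) := by
    have := congrArg (fun t => t.hom) ((adj.homEquiv P S).symm_apply_apply (ObjectProperty.homMk (inv (ad.unit.app S.obj))))
    rw [Adjunction.homEquiv_counit] at this
    exact this
  have huε : u ≫ ε = 𝟙 _ := by simp [u, hwε]
  have hεu : ε ≫ u = 𝟙 _ := by
    -- the difference is killed by `Hom(O[m], -)`
    obtain ⟨C, q, δ, hT⟩ := distinguished_cocone_triangle u
    have hsurj : ∀ (m : ℤ) (t : (OS A)⟦m⟧ ⟶ R.obj (a.obj S).obj), ∃ t', t = t' ≫ u := by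
      intro m t
      refine ⟨t ≫ ε, ?_⟩
      -- transpose
      letI := ad.leftAdjointCommShift ℤ
      haveI := ad.commShift_of_rightAdjoint ℤ
      haveI : IsIso (ad.unit.app ((OS A)⟦m⟧)) := by
        haveI := isIso_unit_OS n A
        rw [← ad.unit_app_shift_commShiftIso_inv_app]
        infer_instance
      let Z := (OS A)⟦m⟧
      have hZ : DCoh.IsQCohD Z := isQCohD_shift (isQCohD_of_iso e S.property) m
      let PZ : DCoh.DQCoh X' := ⟨(DCoh.Lpull π').obj Z, Groth.L29.DC.isQCohD_Lpull π' hZ⟩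
      let τ : PZ ⟶ a.obj S := ObjectProperty.homMk ((ad.homEquiv Z (a.obj S).obj).symm t)
      let p : R.obj ((DCoh.Lpull π').obj Z) ⟶ S.obj := ((adj.homEquiv PZ S).symm τ).hom
      have hp : R.map τ.hom ≫ ε = p := by
        simp only [p, Adjunction.homEquiv_counit]
        rfl
      have ht : ad.unit.app Z ≫ R.map τ.hom = t :=
        ((ad.homEquiv_unit (f := (ad.homEquiv Z (a.obj S).obj).symm t)).symm).trans (Equiv.apply_symm_apply _ _)
      let g : Z ⟶ S.obj := t ≫ ε
      let τ' : PZ ⟶ a.obj S := ObjectProperty.homMk ((DCoh.Lpull π').map g) ≫ w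
      have hτ : τ = τ' := by
        refine (adj.homEquiv PZ S).symm.injective (ObjectProperty.hom_ext _ ?_)
        rw [← cancel_epi (ad.unit.app Z)]
        change ad.unit.app Z ≫ p = _
        rw [← hp, ← Category.assoc, ht]
        simp only [τ', Adjunction.homEquiv_counit]
        change g = ad.unit.app Z ≫ R.map ((DCoh.Lpull π').map g ≫ w.hom) ≫ ε
        rw [Functor.map_comp, Category.assoc, hwε]
        erw [← ad.unit.naturality_assoc g]
        simp
      calc t = ad.unit.app Z ≫ R.map τ.hom := ht.symm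
        _ = ad.unit.app Z ≫ R.map ((DCoh.Lpull π').map g ≫ w.hom) := by rw [hτ]; rfl
        _ = g ≫ u := by
          rw [Functor.map_comp]
          exact (ad.unit.naturality_assoc g _).symm
    have hC : IsZero C := by
      refine Groth.Lead.PerfProj.orth_OS A ?_ fun m t => ?_
      · exact Gen.isQCohD_third _ hT S.property (h _ (a.obj S).property)
      · have hδ : δ = 0 := by
          have h31 : δ ≫ u⟦(1 : ℤ)⟧' = 0 := comp_distTriang_mor_zero₃₁ _ hT
          calc δ = δ ≫ (u ≫ ε)⟦(1 : ℤ)⟧' := by rw [huε, CategoryTheory.Functor.map_id]; exact (Category.comp_id δ).symm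
            _ = 0 := by rw [Functor.map_comp, reassoc_of% h31, zero_comp]
        obtain ⟨t₁, ht₁⟩ : ∃ t₁ : (OS A)⟦m⟧ ⟶ R.obj (a.obj S).obj, t = t₁ ≫ q :=
          Triangle.coyoneda_exact₃ _ hT t (by rw [show (Triangle.mk u q δ).mor₃ = δ from rfl, hδ, comp_zero])
        obtain ⟨t', rfl⟩ := hsurj m t₁
        have h12 : u ≫ q = 0 := comp_distTriang_mor_zero₁₂ _ hT
        rw [ht₁, Category.assoc, h12, comp_zero]
    haveI : IsIso u := (Triangle.isZero₃_iff_isIso₁ _ hT).1 hC
    rw [← cancel_epi u, reassoc_of% huε, Category.comp_id]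
  haveI : IsIso ε := ⟨u, hεu, huε⟩
  -- the map from the twist
  obtain ⟨φ⟩ := nonempty_Rpush_omega n A
  have hΩ : DCoh.IsQCohD ((DCoh.inD X' (O (-((n : ℤ) + 1))))⟦(n : ℤ)⟧) :=
    isQCohD_shift (PCQCoh.isQCohD_of_perfect (isPerfect_inD (hfl n A _))) _
  let W : DCoh.DQCoh X' := ⟨_, hΩ⟩
  let v : W ⟶ a.obj S := adj.homEquiv W S (ObjectProperty.homMk (φ.hom ≫ e.inv))
  have hv : R.map v.hom ≫ ε = φ.hom ≫ e.inv := by
    have := congrArg (fun t => t.hom) ((adj.homEquiv W S).symm_apply_apply (ObjectProperty.homMk (φ.hom ≫ e.inv)))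
    rw [Adjunction.homEquiv_counit] at this
    exact this
  haveI : IsIso (R.map v.hom) :=
    haveI : IsIso (R.map v.hom ≫ ε) := by rw [hv]; infer_instance
    IsIso.of_isIso_comp_right _ ε
  obtain ⟨C, q, δ, hT⟩ := distinguished_cocone_triangle v.hom
  have hCq : DCoh.IsQCohD C := Gen.isQCohD_third _ hT W.property (a.obj S).property
  suffices hC : IsZero C by
    haveI : IsIso v.hom := (Triangle.isZero₃_iff_isIso₁ _ hT).1 hC
    exact ⟨(asIso v.hom).symm⟩
  refine Groth.Lead.TwistGenProj.isZero_of_ortho hCq fun d hd => ?_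
  refine ortho_of_isZero_NF n A d hCq ?_
  rcases Nat.eq_zero_or_pos d with rfl | hd0
  · obtain ⟨z⟩ := Groth.L16.ProjTwist.nonempty_twist_zero_iso (CohB1.polyGrading n A)
    obtain ⟨t0⟩ := Groth.Lead.ProjTwT.nonempty_T_unit (hfl n A 0) z C
    exact ((Triangle.isZero₃_iff_isIso₁ _ (R.map_distinguished _ hT)).2 (show IsIso (R.map v.hom) by infer_instance)).of_iso (R.mapIso t0)
  · haveI : (Groth.Lead.PCProj.NF n A (d : ℤ)).Additive := inferInstance
    refine Triangle.isZero₃_of_isZero₁₂ _ ((NF n A (d : ℤ)).map_distinguished _ hT) ?_ ?_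
    · obtain ⟨et⟩ := Groth.L16.ProjTwist.nonempty_tensor_twist_iso_one (CohB1.polyGrading n A) (fun x => by
        obtain ⟨k, hk⟩ := exists_mem_basicOpen_X n A x
        exact ⟨Xd n A k, hk⟩) (-((n : ℤ) + 1)) d
      refine IsZero.of_iso ?_ (((NF n A (d : ℤ)).commShiftIso (n : ℤ)).app (DCoh.inD X' (O (-((n : ℤ) + 1)))))
      refine (shiftFunctor _ (n : ℤ)).map_isZero (IsZero.of_iso ?_ (R.mapIso
        (TwistEquiv.TSingle (O d) (hfl n A d) _ ≪≫ (DerivedCategory.singleFunctor _ 0).mapIso et)))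
      exact Groth.Lead.PerfProj.isZero_D_of_HD fun i =>
        Groth.Lead.PerfProj.isZero_HD_twist n A (-((n : ℤ) + 1) + d) (by omega) i (Or.inr (by omega))
    · refine Groth.Lead.PerfProj.orth_OS A (isQCohD_NF n A _ (a.obj S).property) fun m t => ?_
      obtain ⟨η, hη⟩ := exists_adjoint n A (d : ℤ)
      let s := ((NF n A (d : ℤ)).commShiftIso (-m)).app (a.obj S).obj
      let t₀ : OS A ⟶ (NF n A (d : ℤ)).obj ((a.obj S).obj⟦-m⟧) :=
        ((shiftFunctorCompIsoId _ m (-m) (add_neg_cancel m)).inv.app (OS A) :) ≫ t⟦-m⟧' ≫ s.inv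
      obtain ⟨x, hx⟩ := (hη _).2 t₀
      have hq1 : DCoh.IsQCohD (DCoh.inD X' (O (-(d : ℤ)))) := PCQCoh.isQCohD_of_perfect (isPerfect_inD (hfl n A _))
      have hx0 : x = 0 := by
        have hz : IsZero (R.obj ((DCoh.inD X' (O (-(d : ℤ))))⟦m⟧)) :=
          ((shiftFunctor _ m).map_isZero (Groth.Lead.PerfProj.isZero_D_of_HD fun i =>
            Groth.Lead.PerfProj.isZero_HD_twist n A (-(d : ℤ)) (by omega) i (Or.inr (by omega)))).of_iso
              ((R.commShiftIso m).app _)
        let Zd : DCoh.DQCoh X' := ⟨_, isQCohD_shift hq1 m⟩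
        let y : Zd ⟶ a.obj S := ObjectProperty.homMk
          (x⟦m⟧' ≫ (shiftFunctorCompIsoId _ (-m) m (neg_add_cancel m)).hom.app (a.obj S).obj)
        have hy : y = 0 := (adj.homEquiv Zd S).symm.injective
          (ObjectProperty.hom_ext _ (hz.eq_of_src _ _))
        have hy' : x⟦m⟧' ≫ (shiftFunctorCompIsoId _ (-m) m (neg_add_cancel m)).hom.app (a.obj S).obj = 0 :=
          congrArg (fun k => k.hom) hy
        refine (shiftFunctor _ m).map_injective ?_
        rw [Functor.map_zero, ← cancel_mono ((shiftFunctorCompIsoId _ (-m) m (neg_add_cancel m)).hom.app (a.obj S).obj),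
          hy', zero_comp]
      have ht0 : t₀ = 0 := by
        rw [← hx, hx0]
        change η ≫ (NF n A (d : ℤ)).map 0 = 0
        rw [Functor.map_zero, comp_zero]
      refine (shiftFunctor _ (-m)).map_injective ?_
      rw [Functor.map_zero, ← cancel_mono s.inv,
        ← cancel_epi ((shiftFunctorCompIsoId _ m (-m) (add_neg_cancel m)).inv.app (OS A))]
      exact ht0.trans (by rw [zero_comp, comp_zero])

end Groth.Lead.ProjAdj
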