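import Groth.Agent.Lead.PerfProj
import Groth.Agent.L16.ProjSpace.TopCoh
import Groth.Agent.L17.ProperCoh
import Groth.Agent.L18.TildeFunctor

/-!
The derived direct image of `O(-n-1)[n]` on projective space.
-/

set_option autoImplicit false
set_option linter.style.haveILetI false
set_option backward.defeqAttrib.useBackward true
set_option backward.isDefEq.respectTransparency false
set_option backward.isDefEq.respectTransparency.types false

universe u

open CategoryTheory CategoryTheory.Limits CategoryTheory.Pretriangulated AlgebraicGeometry MvPolynomial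

attribute [local instance] HasDerivedCategory.standard

noncomputable section

namespace Groth.Lead.ProjAdj

open Groth.L00 Groth.L29.DC Groth.L29.DC.Gen Groth.L16.ProjSpace Groth.Lead.PCProj

variable (n : ℕ) (A : Type u) [CommRing A]

local notation "O" => Twist.twistProjSpace n A
local notation "X'" => CohB1.ProjSpace n A
local notation "π'" => CohB1.ProjSpace.toSpec n A

/-- polynomials of degree zero are constants -/
def degZero : A ≃ₗ[A] ↥(homogeneousSubmodule (Fin (n + 1)) A 0) :=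
  LinearEquiv.ofBijective
    ((Algebra.linearMap A (MvPolynomial (Fin (n + 1)) A)).codRestrict (homogeneousSubmodule (Fin (n + 1)) A 0)
      fun r => isHomogeneous_C _ r)
    ⟨fun a b h => C_injective _ _ (congrArg Subtype.val h), fun p =>
      ⟨coeff 0 p.1, Subtype.ext (((totalDegree_eq_zero_iff_eq_C).1 (Nat.le_zero.1 p.2.totalDegree_le)).symm)⟩⟩

set_option maxHeartbeats 1600000 in
/-- the top direct image of `O(-n-1)` -/
theorem nonempty_Rpush_top [HasInjectiveResolutions (CohB1.ProjSpace n A).Modules] :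
    Nonempty ((Coh.Rpush π' n).obj (O (-((n : ℤ) + 1))) ≅ Coh.structureModule (Spec (CommRingCat.of A))) := by
  haveI : IsProper π' := Groth.L16.ProjSpace.isProper_toSpec n A
  haveI : Coh.IsQCoh (O (-((n : ℤ) + 1))) :=
    Groth.L21.Extend.isQCoh_of_isInvertible (Groth.L16.ProjTwist.isInvertible_twistProjSpace n A _)
  haveI := Groth.L17.PushQCoh.isQCoh_Rpush π' (O (-((n : ℤ) + 1))) n
  let R : CommRingCat.{u} := CommRingCat.of A
  obtain ⟨e₁⟩ := Groth.L17.ProperCoh.nonempty_Γ_Rpush_equiv (R := R) π' (O (-((n : ℤ) + 1))) n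
  have h0 : (dTop n 0 : ℤ) = -((n : ℤ) + 1) := by simp [dTop]
  obtain ⟨e₂⟩ : Nonempty (Coh.HH X' (O (-((n : ℤ) + 1))) n ≃ₗ[A] ↥(homogeneousSubmodule (Fin (n + 1)) A 0)) :=
    h0 ▸ nonempty_HH_top_linearEquiv n 0 A
  let e₃ := (degZero n A).trans (e₂.symm.trans e₁)
  obtain ⟨e₀⟩ := Cpt.nonempty_free_top (X := Spec R)
  let M : (Spec R).Modules := (Coh.Rpush π' n).obj (O (-((n : ℤ) + 1)))
  haveI : M.IsQuasicoherent := ‹Coh.IsQCoh ((Coh.Rpush π' n).obj (O (-((n : ℤ) + 1))))›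
  exact ⟨(Groth.L18.TildeF.counitIso (R := R) M).symm ≪≫
    (tilde.functor R).mapIso (show (moduleSpecΓFunctor (R := R)).obj M ≅ ModuleCat.of R R from e₃.symm.toModuleIso) ≪≫
    ((TildeD.freeIso (R := R)).symm ≪≫ e₀)⟩

variable [DCoh.HasRpush (CohB1.ProjSpace.toSpec n A)]

/-- the lower direct images of `O(-n-1)` vanish -/
theorem isZero_HD_top (i : ℤ) (hi : i ≠ n) :
    IsZero (DCoh.HD ((DCoh.Rpush π').obj (DCoh.inD X' (O (-((n : ℤ) + 1))))) i) := by
  haveI : IsProper π' := Groth.L16.ProjSpace.isProper_toSpec n A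
  haveI := Groth.L17.PushQCoh.hasInjectiveResolutions X'
  haveI : Coh.IsQCoh (O (-((n : ℤ) + 1))) :=
    Groth.L21.Extend.isQCoh_of_isInvertible (Groth.L16.ProjTwist.isInvertible_twistProjSpace n A _)
  rcases lt_or_ge i 0 with h | h
  · haveI : (DCoh.inD X' (O (-((n : ℤ) + 1)))).IsGE 0 := inferInstance
    haveI := RpushQC.isGE_Rpush π' (DCoh.inD X' (O (-((n : ℤ) + 1)))) 0
    exact DerivedCategory.isZero_of_isGE _ 0 i h
  · obtain ⟨q, rfl⟩ : ∃ q : ℕ, i = q := ⟨i.toNat, by omega⟩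
    obtain ⟨e⟩ := Groth.Lead.RpushHD.nonempty_HD_Rpush_inD π' (O (-((n : ℤ) + 1))) q
    refine IsZero.of_iso ?_ e
    exact (Groth.Agent.Pic0.subsingleton_HH_iff π' (O (-((n : ℤ) + 1))) q).1
      (subsingleton_HH_twist n A (-((n : ℤ) + 1)) q (by rintro ⟨-, hc⟩; omega) (by rintro ⟨h₀, -⟩; omega))

/-- `Rπ_* O(-n-1)[n] = O` -/
theorem nonempty_Rpush_omega :
    Nonempty ((DCoh.Rpush π').obj ((DCoh.inD X' (O (-((n : ℤ) + 1))))⟦(n : ℤ)⟧) ≅ OS A) := by
  haveI := Groth.L17.PushQCoh.hasInjectiveResolutions X'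
  let T := (DCoh.Rpush π').obj ((DCoh.inD X' (O (-((n : ℤ) + 1))))⟦(n : ℤ)⟧)
  let s := ((DCoh.Rpush π').commShiftIso (n : ℤ)).app (DCoh.inD X' (O (-((n : ℤ) + 1))))
  let R₀ := (DCoh.Rpush π').obj (DCoh.inD X' (O (-((n : ℤ) + 1))))
  let sh : ∀ i j : ℤ, (n : ℤ) + i = j → (DCoh.HD T i ≅ DCoh.HD R₀ j) := fun i j h =>
    (DerivedCategory.homologyFunctor _ i).mapIso s ≪≫
      ((DerivedCategory.homologyFunctor _ 0).shiftIso (n : ℤ) i j h).app R₀
  have hz : ∀ i, i ≠ 0 → IsZero (DCoh.HD T i) := fun i hi =>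
    (isZero_HD_top n A ((n : ℤ) + i) (by omega)).of_iso (sh i _ rfl)
  haveI : T.IsGE 0 := (DerivedCategory.isGE_iff _ _).2 fun i hi => hz i (by omega)
  haveI : T.IsLE 0 := (DerivedCategory.isLE_iff _ _).2 fun i hi => hz i (by omega)
  obtain ⟨Y, ⟨eY⟩⟩ := DerivedCategory.exists_iso_singleFunctor_obj_of_isGE_of_isLE T 0
  obtain ⟨a⟩ := Groth.L29.RelPC.nonempty_HD0_inD Y
  obtain ⟨b⟩ := Groth.Lead.RpushHD.nonempty_HD_Rpush_inD π' (O (-((n : ℤ) + 1))) n
  obtain ⟨c⟩ := nonempty_Rpush_top n A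
  exact ⟨eY ≪≫ (DerivedCategory.singleFunctor _ 0).mapIso (a.symm ≪≫
    (DerivedCategory.homologyFunctor _ 0).mapIso eY.symm ≪≫ sh 0 n (add_zero _) ≪≫ b ≪≫ c)⟩

end Groth.Lead.ProjAdj
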